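import Groth.Agent.W7Hull.InvNear

/-!
Sections on a fibre with vanishing first cohomology come, up to a common unit, from sections nearby.
-/

set_option autoImplicit false
set_option backward.isDefEq.respectTransparency false
set_option backward.isDefEq.respectTransparency.types false
set_option linter.style.haveILetI false
set_option maxHeartbeats 1000000

universe u

open CategoryTheory CategoryTheory.Limits AlgebraicGeometry TopologicalSpace Opposite
open Groth.Agent.QC (res res_res res_smul app_res)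
open TMul (IsGen tm)

noncomputable section

namespace Groth.Agent.VAmpleNear

open W7Hull

variable {X Y : Scheme.{u}}

/-- Where the pullback of a section generates, the section generates. -/
theorem exists_gen_of_isGen_pullSectLE {X' : Scheme.{u}} (q : X' ⟶ X) {H : X.Modules} (hH : PicF.IsInvertible H)
    {U₀ : X.Opens} {V' : X'.Opens} (h : V' ≤ q ⁻¹ᵁ U₀) (s : Γ(H, U₀))
    (hg : IsGen (ModDesc.pullSectLE q H U₀ V' h s)) (z : X') (hz : z ∈ V') :
    ∃ (W : X.Opens) (hW : W ≤ U₀), q z ∈ W ∧ IsGen (res H hW s) := by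
  obtain ⟨A, e, hxA, he⟩ := TMul.exists_isGen hH (q z)
  let V := A ⊓ U₀
  let V₁ := V' ⊓ q ⁻¹ᵁ V
  have hxV : q z ∈ V := ⟨hxA, h hz⟩
  have hzV₁ : z ∈ V₁ := ⟨hz, hxV⟩
  have heV : IsGen (res H (inf_le_left : V ≤ A) e) := he.res inf_le_left
  obtain ⟨c, hc⟩ := (heV V le_rfl).2 (res H (inf_le_right : V ≤ U₀) s)
  change c • res H le_rfl (res H (inf_le_left : V ≤ A) e) = _ at hc
  rw [QC.res_self] at hc
  let c' := (q.appLE V V₁ inf_le_right).hom c
  have hgV : IsGen (c' • ModDesc.pullSectLE q H V V₁ inf_le_right (res H (inf_le_left : V ≤ A) e)) := by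
    rw [← ModDesc.pullSectLE_smul, hc, ← ModDesc.res_pullSectLE _ H (inf_le_right : V ≤ U₀)
      (inf_le_left : V₁ ≤ V') h]
    exact hg.res _
  have hpe : IsGen (ModDesc.pullSectLE q H V V₁ inf_le_right (res H (inf_le_left : V ≤ A) e)) := by
    have h1 : IsGen (ModDesc.pullSectLE q H V (q ⁻¹ᵁ V) le_rfl (res H (inf_le_left : V ≤ A) e)) := by
      rw [show ModDesc.pullSectLE q H V (q ⁻¹ᵁ V) le_rfl (res H inf_le_left e) =
        ProjMor.eta q H V (res H inf_le_left e) from QC.res_self _ _ _]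
      exact C1Cap.isGen_eta _ heV
    have h2 := h1.res (inf_le_right : V₁ ≤ q ⁻¹ᵁ V)
    rwa [ModDesc.res_pullSectLE q H le_rfl (inf_le_right : V₁ ≤ q ⁻¹ᵁ V) le_rfl inf_le_right, QC.res_self] at h2
  have hcu : IsUnit c' := isUnit_coeff hpe hgV
  have hcx : q z ∈ X.basicOpen c := by
    rw [Scheme.mem_basicOpen _ _ _ hxV]
    refine IsUnit.of_map (q.stalkMap z).hom _ ?_
    rw [Scheme.Hom.germ_stalkMap_apply]
    have := hcu.map (X'.presheaf.germ V₁ z hzV₁).hom
    simp only [c', Scheme.Hom.appLE, CommRingCat.comp_apply, TopCat.Presheaf.germ_res_apply] at this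
    exact this
  refine ⟨X.basicOpen c, (X.basicOpen_le c).trans inf_le_right, hcx, ?_⟩
  rw [show res H ((X.basicOpen_le c).trans inf_le_right) s =
    (X.presheaf.map (homOfLE (X.basicOpen_le c)).op).hom c •
      res H (X.basicOpen_le c) (res H inf_le_left e) by
    rw [← res_smul, hc, res_res]]
  exact isGen_smul (heV.res _) (RingedSpace.isUnit_res_basicOpen _ c)

variable (f : X ⟶ Y) [IsProper f] [Flat f] [IsLocallyNoetherian Y]

/-- Finitely many sections on the fibre come, up to a common unit, from sections over a neighbourhood. -/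
theorem exists_lift (H : X.Modules) (hH : PicF.IsInvertible H) (y : Y)
    (h1 : Subsingleton (CohIII.fiberH f H y 1)) {ι' : Type} [Fintype ι'] [DecidableEq ι']
    (v : ι' → Γ((Scheme.Modules.pullback (f.fiberι y)).obj H, ⊤)) :
    ∃ (U : Y.Opens) (h : (⊤ : (f.fiber y).Opens) ≤ f.fiberι y ⁻¹ᵁ (f ⁻¹ᵁ U)) (g : ι' → Γ(H, f ⁻¹ᵁ U))
      (c : Γ(f.fiber y, ⊤)), IsAffineOpen U ∧ y ∈ U ∧ IsUnit c ∧
      ∀ j, ModDesc.pullSectLE (f.fiberι y) H (f ⁻¹ᵁ U) ⊤ h (g j) = c • v j := by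
  haveI : LocallyOfFinitePresentation f := InfLift.lfp_of_lft f
  have hF := isFP_of_isInvertible hH
  have hfl := isFlatOver_of_isInvertible f hH
  have hq := FibDepth.isQCoh_of_isFP hF
  obtain ⟨W, hyW, hW⟩ := exists_nhd_epi_of_vanish f H hH y h1
  obtain ⟨U, hU, hyU, hUW⟩ := exists_isAffineOpen_mem_and_subset (x := y) (U := W) hyW
  obtain ⟨m⟩ := W7Cech.nonempty_ModelNN f hq hF hfl hU
  have he : (CohIII.TFun m.L 0).PreservesEpimorphisms := hW U hU hUW m
  let g := Y.fromSpecResidueField y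
  let f' := f.fiberToSpecResidueField y
  let ι := f.fiberι y
  have sq : IsPullback ι f' f g := IsPullback.of_hasPullback f g
  have hVU : (⊤ : (Spec (Y.residueField y)).Opens) ≤ g ⁻¹ᵁ U := fun z _ => by
    change g z ∈ U
    rw [Scheme.fromSpecResidueField_apply]
    exact hyU
  have hbc := W7Cech.isBC_bc0Adj f hq hfl hU m he sq (isAffineOpen_top _) hVU
  let θ := CohBC.bc0Adj f g f' ι sq.w H
  let r := RelTilde.resθ g θ hVU
  have hle : (⊤ : (f.fiber y).Opens) ≤ ι ⁻¹ᵁ (f ⁻¹ᵁ U) := fun z _ => by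
    change f (ι z) ∈ U
    rw [← Scheme.Hom.comp_apply, sq.w, Scheme.Hom.comp_apply]
    exact hVU (show f' z ∈ (⊤ : (Spec (Y.residueField y)).Opens) from trivial)
  let K := (Scheme.Modules.pushforward f').obj ((Scheme.Modules.pullback ι).obj H)
  let S : Submodule Γ(Spec (Y.residueField y), ⊤) Γ(K, ⊤) := Submodule.span _ (Set.range r)
  have hS : S = ⊤ := by
    obtain ⟨φ, -, huniq⟩ := hbc (Γ(K, ⊤) ⧸ S) 0
    have h2 := huniq S.mkQ fun s => (Submodule.Quotient.mk_eq_zero S).2 (Submodule.subset_span ⟨s, rfl⟩)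
    have h3 := huniq 0 fun s => rfl
    exact eq_top_iff.2 fun t _ => (Submodule.Quotient.mk_eq_zero S).1 (LinearMap.congr_fun (h2.trans h3.symm) t)
  let β := (g.appLE U ⊤ hVU).hom
  let q := Scheme.ΓSpecIso (Y.residueField y)
  have hq' : ∀ a, q.hom.hom (β a) = (Y.evaluation U y hyU).hom a := fun a =>
    congr(($(W7Cech.appLE_fromSpecResidueField hU y hyU hVU)).hom a)
  have hqb : Function.Bijective q.hom.hom := ConcreteCategory.bijective_of_isIso q.hom
  -- every element is a unit multiple of an image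
  have key : ∀ x ∈ S, ∃ a, (Y.evaluation U y hyU).hom a ≠ 0 ∧ ∃ s, β a • x = r s := by
    intro x hx
    induction hx using Submodule.span_induction with
    | mem x hx =>
      obtain ⟨s, rfl⟩ := hx
      exact ⟨1, by rw [map_one]; exact one_ne_zero, s, by rw [map_one, one_smul]⟩
    | zero => exact ⟨1, by rw [map_one]; exact one_ne_zero, 0, by rw [smul_zero, map_zero]⟩
    | add x z _ _ hx hz =>
      obtain ⟨a, ha, s, hs⟩ := hx
      obtain ⟨b, hb, t, ht⟩ := hz
      refine ⟨a * b, by rw [map_mul]; exact mul_ne_zero ha hb, b • s + a • t, ?_⟩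
      rw [map_add, map_smulₛₗ, map_smulₛₗ, ← hs, ← ht, smul_smul, smul_smul, map_mul, mul_comm (β b), smul_add]
    | smul c x _ hx =>
      obtain ⟨a, ha, s, hs⟩ := hx
      obtain ⟨b, d, hb, hd⟩ := exists_fraction hU y hyU (q.hom.hom c)
      refine ⟨a * b, by rw [map_mul]; exact mul_ne_zero ha hb, d • s, ?_⟩
      have hcb : c * β b = β d := hqb.1 (by rw [map_mul, hq', hq', hd])
      rw [map_smulₛₗ, ← hs, smul_smul, smul_smul, ← hcb, map_mul]
      congr 1
      ring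
  choose a ha s hs using fun j => key (show Γ(K, ⊤) from v j) (hS ▸ Submodule.mem_top)
  let A := ∏ j, a j
  have hA : (Y.evaluation U y hyU).hom A ≠ 0 := by
    rw [map_prod]
    exact Finset.prod_ne_zero_iff.2 fun j _ => ha j
  have hu : IsUnit (β A) := by
    refine (isUnit_map_iff (RingEquiv.ofBijective q.hom.hom hqb) _).1 ?_
    exact IsUnit.mk0 _ (by rw [show RingEquiv.ofBijective q.hom.hom hqb (β A) = q.hom.hom (β A) from rfl, hq']; exact hA)
  refine ⟨U, hle, fun j => (show Γ(H, f ⁻¹ᵁ U) from (∏ k ∈ Finset.univ.erase j, a k) • s j),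
    (show Γ(f.fiber y, ⊤) from (f'.app ⊤).hom (β A)), hU, hyU, hu.map (f'.app ⊤).hom, fun j => ?_⟩
  have hA' : A = (∏ k ∈ Finset.univ.erase j, a k) * a j :=
    (Finset.prod_erase_mul _ _ (Finset.mem_univ j)).symm
  have h2 : r ((∏ k ∈ Finset.univ.erase j, a k) • s j) = β A • (show Γ(K, ⊤) from v j) := by
    rw [map_smulₛₗ, ← hs, smul_smul, hA', map_mul]
  refine Eq.trans ?_ h2
  exact (res_res _ _ _ _).symm

/-- Shrink the base so that sections generating along a fibre generate everywhere. -/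
theorem exists_affine_shrink (H : X.Modules) (y : Y) {U : Y.Opens} (hyU : y ∈ U) {ι' : Type*}
    (g : ι' → Γ(H, f ⁻¹ᵁ U))
    (hfib : ∀ x : X, f x = y → ∃ (j : ι') (W : X.Opens) (hW : W ≤ f ⁻¹ᵁ U), x ∈ W ∧ IsGen (res H hW (g j))) :
    ∃ (U' : Y.Opens) (hle : U' ≤ U), IsAffineOpen U' ∧ y ∈ U' ∧
      ∀ x, x ∈ f ⁻¹ᵁ U' → ∃ (j : ι') (W : X.Opens) (hW : W ≤ f ⁻¹ᵁ U'), x ∈ W ∧
        IsGen (res H hW (res H (f.preimage_mono hle) (g j))) := by
  let O : X.Opens := sSup {V : X.Opens | ∃ (j : ι') (h : V ≤ f ⁻¹ᵁ U), IsGen (res H h (g j))}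
  have hO : ∀ x : X, f x = y → x ∈ O := fun x hx => by
    obtain ⟨j, W, hW, hxW, hg⟩ := hfib x hx
    exact Opens.mem_sSup.2 ⟨W, ⟨j, hW, hg⟩, hxW⟩
  have hcl : IsClosed (f.base '' (↑O : Set X)ᶜ) := f.isClosedMap _ O.2.isClosed_compl
  let U₁ : Y.Opens := U ⊓ ⟨(f.base '' (↑O : Set X)ᶜ)ᶜ, hcl.isOpen_compl⟩
  have hyU₁ : y ∈ U₁ := ⟨hyU, fun ⟨x, hx, hxy⟩ => hx (hO x hxy)⟩
  obtain ⟨U', hU', hyU', hle⟩ := exists_isAffineOpen_mem_and_subset (x := y) (U := U₁) hyU₁
  refine ⟨U', fun z hz => (hle hz).1, hU', hyU', fun x hx => ?_⟩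
  have hxO : x ∈ O := by
    by_contra h
    exact (hle hx).2 ⟨x, h, rfl⟩
  obtain ⟨V, ⟨j, hV, hVg⟩, hxV⟩ := Opens.mem_sSup.1 hxO
  refine ⟨j, V ⊓ f ⁻¹ᵁ U', inf_le_right, ⟨hxV, hx⟩, ?_⟩
  rw [res_res, ← res_res H (inf_le_left : V ⊓ f ⁻¹ᵁ U' ≤ V) hV]
  exact hVg.res _

end Groth.Agent.VAmpleNear
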