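import Groth.Agent.VAmpleNear.Coord
import Groth.Agent.VAmpleNear.Lift
import Groth.Agent.S2803
import Groth.Agent.HQProj.Basic

/-!
Very ampleness on a fibre with vanishing first cohomology spreads to a neighbourhood.
-/

set_option autoImplicit false
set_option backward.isDefEq.respectTransparency false
set_option backward.isDefEq.respectTransparency.types false
set_option linter.style.haveILetI false
set_option maxHeartbeats 1000000

universe u

open CategoryTheory CategoryTheory.Limits AlgebraicGeometry TopologicalSpace Opposite IsLocalRing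
open Groth.Agent.QC (res res_res res_smul app_res)
open TMul (IsGen val homOf val_homOf)
open ProjMor

noncomputable section

namespace Groth.Agent.VAmpleNear

/-- the map of projective spaces over a map of bases -/
def pMap (n : ℕ) {T S : Scheme.{u}} (g : T ⟶ S) : CohB1.ProjSpaceOver n T ⟶ CohB1.ProjSpaceOver n S :=
  pullback.lift (pz n T) (CohB1.ProjSpaceOver.toBase n T ≫ g)
    (by simp only [pz, CohB1.ProjSpaceOver.toBase]; rw [pullback.condition, Category.assoc]; congr 1; exact specULiftZIsTerminal.hom_ext _ _)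

theorem pMap_pz (n : ℕ) {T S : Scheme.{u}} (g : T ⟶ S) : pMap n g ≫ pz n S = pz n T := pullback.lift_fst _ _ _

theorem isPullback_pMap (n : ℕ) {T S : Scheme.{u}} (g : T ⟶ S) :
    IsPullback (pMap n g) (CohB1.ProjSpaceOver.toBase n T) (CohB1.ProjSpaceOver.toBase n S) g := by
  refine IsPullback.of_right ?_ (pullback.lift_snd _ _ _) (IsPullback.of_hasPullback _ _)
  rw [show g ≫ specULiftZIsTerminal.from S = specULiftZIsTerminal.from T from specULiftZIsTerminal.hom_ext _ _,
    show pMap n g ≫ pullback.fst _ _ = pz n T from pMap_pz n g]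
  exact IsPullback.of_hasPullback _ _

theorem isClosedImmersion_of_isImmersion_of_proper {X Y : Scheme.{u}} (i : X ⟶ Y) [IsImmersion i] [IsProper i] :
    IsClosedImmersion i :=
  IsClosedImmersion.of_isPreimmersion i i.isClosedMap.isClosed_range

/-- A closed immersion on a fibre of a proper morphism over the base is one nearby. -/
theorem exists_nhd_isClosedImmersion {X P U X₀ P₀ T : Scheme.{u}} (φ : X ⟶ P) [IsProper φ] (ψ : P ⟶ U) [IsProper ψ]
    (y : U) (g : T ⟶ U) (hg : ∀ (K : Type u) [Field K] (a : Spec (CommRingCat.of K) ⟶ U),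
      a (closedPoint K) = y → ∃ b, b ≫ g = a)
    (m : P₀ ⟶ P) (b : P₀ ⟶ T) (hm : IsPullback m b ψ g) (l : X₀ ⟶ X) (i : X₀ ⟶ P₀) [IsClosedImmersion i]
    (hl : IsPullback l i φ m) :
    ∃ O : U.Opens, y ∈ O ∧ IsClosedImmersion (φ ∣_ (ψ ⁻¹ᵁ O)) := by
  have key : ∀ z : P, ψ z = y → ∃ O : P.Opens, z ∈ O ∧ IsClosedImmersion (φ ∣_ O) := fun z hz => by
    refine (Groth.Agent.S2803.result φ z).2 ⟨?_, ⊤, trivial, ?_⟩
    · let a := P.fromSpecResidueField z
      obtain ⟨c, hc⟩ := hg (P.residueField z) (a ≫ ψ) (by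
        rw [Scheme.Hom.comp_apply]
        exact (congrArg ψ (Scheme.fromSpecResidueField_apply z _)).trans hz)
      let w := hm.lift a c hc.symm
      have hw : w ≫ m = a := hm.lift_fst _ _ _
      let l' := hl.lift (φ.fiberι z) (φ.fiberToSpecResidueField z ≫ w) (by
        rw [Category.assoc, hw]; exact pullback.condition)
      have hb : IsPullback l' (φ.fiberToSpecResidueField z) i w :=
        IsPullback.of_right (by
          rw [hl.lift_fst, hw]
          exact IsPullback.of_hasPullback φ (P.fromSpecResidueField z)) (hl.lift_snd _ _ _) hl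
      haveI : IsClosedImmersion (φ.fiberToSpecResidueField z) :=
        MorphismProperty.of_isPullback (P := @IsClosedImmersion) hb inferInstance
      rcases isEmpty_or_nonempty (φ.fiber z : Scheme.{u}) with h | h
      · exact Or.inl h
      · obtain ⟨x⟩ := h
        haveI : Surjective (φ.fiberToSpecResidueField z) := ⟨fun p => ⟨x, Subsingleton.elim _ _⟩⟩
        exact Or.inr (isIso_of_isClosedImmersion_of_surjective _)
    · exact IsZariskiLocalAtTarget.restrict (P := @UniversallyClosed) inferInstance ⊤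
  choose O hzO hO using key
  let Q : P.Opens := ⨆ (z : P) (h : ψ z = y), O z h
  have hcl : IsClosed (ψ.base '' (↑Q : Set P)ᶜ) := ψ.isClosedMap _ Q.2.isClosed_compl
  refine ⟨⟨(ψ.base '' (↑Q : Set P)ᶜ)ᶜ, hcl.isOpen_compl⟩, fun ⟨z, hz, hzy⟩ =>
    hz (Opens.mem_iSup.2 ⟨z, Opens.mem_iSup.2 ⟨hzy, hzO z hzy⟩⟩), ?_⟩
  let V : P.Opens := ψ ⁻¹ᵁ ⟨(ψ.base '' (↑Q : Set P)ᶜ)ᶜ, hcl.isOpen_compl⟩
  change IsClosedImmersion (φ ∣_ V)
  refine (IsZariskiLocalAtTarget.iff_of_openCover (P := @IsClosedImmersion)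
    (V.toScheme.openCoverOfIsOpenCover (fun p : Σ' (z : P), ψ z = y => V.ι ⁻¹ᵁ O p.1 p.2) ?_)).2 fun p => ?_
  · refine top_le_iff.1 fun x _ => ?_
    have hxQ : V.ι x ∈ Q := by
      by_contra h
      exact x.2 ⟨_, h, rfl⟩
    obtain ⟨z, hz⟩ := Opens.mem_iSup.1 hxQ
    obtain ⟨h, hz⟩ := Opens.mem_iSup.1 hz
    exact Opens.mem_iSup.2 ⟨⟨z, h⟩, hz⟩
  · let j := (V.ι ⁻¹ᵁ O p.1 p.2).ι
    let k := IsOpenImmersion.lift (O p.1 p.2).ι (j ≫ V.ι) (by
      rintro _ ⟨q, rfl⟩
      rw [Scheme.Opens.range_ι]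
      exact q.2)
    have hk : k ≫ (O p.1 p.2).ι = j ≫ V.ι := IsOpenImmersion.lift_fac _ _ _
    have h1 := (IsPullback.of_hasPullback (φ ∣_ V) j).paste_horiz (isPullback_morphismRestrict φ V).flip
    rw [← hk] at h1
    exact MorphismProperty.of_isPullback (P := @IsClosedImmersion)
      (IsPullback.of_right' h1 (isPullback_morphismRestrict φ (O p.1 p.2)).flip) (hO p.1 p.2)

variable {X Y : Scheme.{u}} (f : X ⟶ Y) [IsProper f] [Flat f] [IsLocallyNoetherian Y]

/-- **Very ampleness spreads from a fibre without first cohomology.** -/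
theorem exists_nhd_veryAmple {L : X.Modules} (hL : PicF.IsInvertible L) (y : Y)
    (hva : RelAmple.IsRelVeryAmplePn (f.fiberToSpecResidueField y) ((Scheme.Modules.pullback (f.fiberι y)).obj L))
    (h1 : Subsingleton (CohIII.fiberH f L y 1)) :
    ∃ U : Y.Opens, y ∈ U ∧ IsAffineOpen U ∧ RelAmple.IsRelVeryAmplePn (f ∣_ U) (L.restrict (f ⁻¹ᵁ U).ι) := by
  obtain ⟨n, i, hi, hif, ⟨τ⟩⟩ := hva
  let ι := f.fiberι y
  let f' := f.fiberToSpecResidueField y
  let Ly := (Scheme.Modules.pullback ι).obj L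
  obtain ⟨t, ht⟩ := exists_coordinate_sections i τ
  have hti : Coord (i ≫ pz n (Spec (Y.residueField y))) Ly t :=
    Coord.mk' (fun j => (ht j).1.symm) fun j => (ht j).2
  obtain ⟨U₀, h₀, s₀, c, -, hyU₀, hc, hs₀⟩ := exists_lift f L hL y h1 t
  -- the sections generate along the fibre
  have hfib : ∀ x : X, f x = y → ∃ (j : Fin (n + 1)) (W : X.Opens) (hW : W ≤ f ⁻¹ᵁ U₀),
      x ∈ W ∧ IsGen (res L hW (s₀ j)) := fun x hx => by
    obtain ⟨z, rfl⟩ := (show x ∈ Set.range ι from by rw [Scheme.Hom.range_fiberι]; exact hx)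
    obtain ⟨j, hj⟩ := exists_mem (i ≫ pz n _) z
    have hz : z ∈ CohB1.genLocus Ly (homOf (c • t j)) := by rw [genLocus_smul hc, ← hti.1 j]; exact hj
    obtain ⟨W, hW, hxW, hg⟩ := exists_gen_of_isGen_pullSectLE ι hL
      (show CohB1.genLocus Ly (homOf (c • t j)) ≤ ι ⁻¹ᵁ (f ⁻¹ᵁ U₀) from le_top.trans h₀) (s₀ j) (by
        have h3 : res Ly (le_top : CohB1.genLocus Ly (homOf (c • t j)) ≤ ⊤) (c • t j) =
            ModDesc.pullSectLE ι L (f ⁻¹ᵁ U₀) _ (le_top.trans h₀) (s₀ j) := by
          rw [← hs₀ j]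
          exact (ModDesc.res_pullSectLE ι L le_rfl le_top h₀ (le_top.trans h₀) (s₀ j)).trans
            (congrArg _ (QC.res_self _ _ _))
        rw [← h3]
        exact isGen_homOf (c • t j)) z hz
    exact ⟨j, W, hW, hxW, hg⟩
  obtain ⟨U, hle, -, hyU, hcov⟩ := exists_affine_shrink f L y hyU₀ s₀ hfib
  let s := fun j => res L (f.preimage_mono hle) (s₀ j)
  have hU : (⊤ : (f.fiber y).Opens) ≤ ι ⁻¹ᵁ (f ⁻¹ᵁ U) := fun z _ => by
    change f (ι z) ∈ U
    have : f (ι z) = y := by
      have hz : ι z ∈ Set.range ι := ⟨z, rfl⟩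
      rw [Scheme.Hom.range_fiberι] at hz
      exact hz
    rw [this]; exact hyU
  have hs : ∀ j, ModDesc.pullSectLE ι L (f ⁻¹ᵁ U) ⊤ hU (s j) = c • t j := fun j => by
    rw [← hs₀ j, ← ModDesc.res_pullSectLE ι L (f.preimage_mono hle) le_rfl h₀ hU, QC.res_self]
  -- the morphism over `U`
  let j := (f ⁻¹ᵁ U).ι
  let M := (Scheme.Modules.pullback j).obj L
  have hM : PicF.IsInvertible M := PicLoc.isInvertible_pullback j hL
  have hj : (⊤ : (f ⁻¹ᵁ U).toScheme.Opens) ≤ j ⁻¹ᵁ (f ⁻¹ᵁ U) := fun x _ => x.2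
  let σ : Fin (n + 1) → Γ(M, ⊤) := fun k => ModDesc.pullSectLE j L (f ⁻¹ᵁ U) ⊤ hj (s k)
  obtain ⟨φ, hφ, ⟨θ⟩, hφc⟩ := exists_toProjSpaceOver (f ∣_ U) hM σ (generatedBy_of_mem_genLocus σ fun x => by
    obtain ⟨k, W, hW, hxW, hg⟩ := hcov (j x) x.2
    refine ⟨k, TMul.le_genLocus (homOf (σ k)) (U := j ⁻¹ᵁ W) ?_ hxW⟩
    rw [val_homOf, show res M (le_top : j ⁻¹ᵁ W ≤ ⊤) (σ k) = ModDesc.pullSectLE j L W (j ⁻¹ᵁ W) le_rfl (res L hW (s k))
      from ModDesc.res_pullSectLE j L hW le_top hj le_rfl (s k)]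
    rw [show ModDesc.pullSectLE j L W (j ⁻¹ᵁ W) le_rfl (res L hW (s k)) = ProjMor.eta j L W (res L hW (s k))
      from QC.res_self _ _ _]
    exact C1Cap.isGen_eta _ hg)
  have hσ : Coord (φ ≫ pz n _) M σ := Coord.mk' (fun k => (hφc k).1) fun k => (hφc k).2
  -- the fibre
  let l : f.fiber y ⟶ (f ⁻¹ᵁ U).toScheme := IsOpenImmersion.lift j ι (by
    rintro _ ⟨z, rfl⟩
    rw [Scheme.Opens.range_ι]
    exact hU (show z ∈ (⊤ : (f.fiber y).Opens) from trivial))
  have hlj : l ≫ j = ι := IsOpenImmersion.lift_fac _ _ _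
  let g : Spec (Y.residueField y) ⟶ U.toScheme := IsOpenImmersion.lift U.ι (Y.fromSpecResidueField y) (by
    rw [Scheme.range_fromSpecResidueField, Scheme.Opens.range_ι]
    exact Set.singleton_subset_iff.2 hyU)
  have hg : g ≫ U.ι = Y.fromSpecResidueField y := IsOpenImmersion.lift_fac _ _ _
  have hl : IsPullback l f' (f ∣_ U) g := by
    refine IsPullback.of_right ?_ ?_ (isPullback_morphismRestrict f U).flip
    · rw [hlj, hg]; exact IsPullback.of_hasPullback f (Y.fromSpecResidueField y)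
    · rw [← cancel_mono U.ι, Category.assoc, morphismRestrict_ι, ← Category.assoc, hlj, Category.assoc, hg]
      exact pullback.condition
  have hfib : Coord (l ≫ φ ≫ pz n _) Ly fun k => c • t k := by
    have h2 := (Coord.pullback l hM hσ).map ((ModDesc.trIso l j hlj).app L)
    refine (congrArg (Coord _ _) (funext fun k => ?_)).mp h2
    refine Eq.trans ?_ ((ModDesc.tr_pullSectLE l j hlj L hj le_top hU (s k)).trans (hs k))
    exact congrArg (((ModDesc.trIso l j hlj).hom.app L).app ⊤) (QC.res_self _ _ _).symm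
  have he : l ≫ φ = i ≫ pMap n g := by
    refine pullback.hom_ext ?_ ?_
    · rw [Category.assoc, Category.assoc]
      refine (Coord.ext hfib (hti.smul hc)).trans ?_
      exact congrArg (i ≫ ·) (pMap_pz n g).symm
    · rw [Category.assoc, Category.assoc]
      refine Eq.trans (congrArg (l ≫ ·) hφ) ?_
      rw [hl.w]
      refine Eq.trans (congrArg (· ≫ g) hif.symm) ?_
      rw [Category.assoc]
      exact congrArg (i ≫ ·) (pullback.lift_snd _ _ _).symm
  have hlφ : IsPullback l i φ (pMap n g) :=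
    IsPullback.of_bot (by
      rw [show i ≫ CohB1.ProjSpaceOver.toBase n _ = f' from hif, hφ]
      exact hl) he (isPullback_pMap n g)
  haveI := HQProj.isProper_toBase n U.toScheme
  haveI := HQProj.isProper_toBase n (Spec (Y.residueField y))
  haveI : IsProper (φ ≫ CohB1.ProjSpaceOver.toBase n U.toScheme) := by
    rw [hφ]; exact IsZariskiLocalAtTarget.restrict (P := @IsProper) inferInstance U
  haveI : IsProper φ := IsProper.of_comp φ (CohB1.ProjSpaceOver.toBase n U.toScheme)
  haveI : IsProper (i ≫ CohB1.ProjSpaceOver.toBase n (Spec (Y.residueField y))) := by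
    rw [show i ≫ CohB1.ProjSpaceOver.toBase n _ = f' from hif]
    exact MorphismProperty.pullback_snd _ _ inferInstance
  haveI : IsProper i := IsProper.of_comp i (CohB1.ProjSpaceOver.toBase n (Spec (Y.residueField y)))
  haveI := isClosedImmersion_of_isImmersion_of_proper i
  obtain ⟨O, hyO, hO⟩ := exists_nhd_isClosedImmersion φ (CohB1.ProjSpaceOver.toBase n U.toScheme) ⟨y, hyU⟩ g
    (fun K _ a ha => by
      obtain ⟨⟨z, ε⟩, hz⟩ := (Scheme.SpecToEquivOfField K Y).symm.surjective (a ≫ U.ι)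
      have hz' : Spec.map ε ≫ Y.fromSpecResidueField z = a ≫ U.ι := hz
      have hzy : z = y := by
        have := congrArg (fun q : Spec (CommRingCat.of K) ⟶ Y => q (closedPoint K)) hz'
        simp only [Scheme.Hom.comp_apply, Scheme.fromSpecResidueField_apply, ha] at this
        exact this
      subst hzy
      exact ⟨Spec.map ε, by rw [← cancel_mono U.ι, Category.assoc, hg]; exact hz'⟩)
    (pMap n g) _ (isPullback_pMap n g) l i hlφ
  -- shrink the base
  obtain ⟨U', hU', hyU', hU'O⟩ := exists_isAffineOpen_mem_and_subset (x := y) (U := U.ι ''ᵁ O) ⟨⟨y, hyU⟩, hyO, rfl⟩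
  refine ⟨U', hyU', hU', ?_⟩
  have hle' : U' ≤ U := fun z hz => by
    obtain ⟨w, -, rfl⟩ := hU'O hz
    exact w.2
  let e := X.homOfLE (f.preimage_mono hle')
  let k := Y.homOfLE hle'
  have he' : IsPullback e (f ∣_ U') (f ∣_ U) k := by
    refine IsPullback.of_right ?_ ?_ (isPullback_morphismRestrict f U).flip
    · rw [Scheme.homOfLE_ι, Scheme.homOfLE_ι]; exact (isPullback_morphismRestrict f U').flip
    · rw [← cancel_mono U.ι, Category.assoc, Category.assoc, morphismRestrict_ι, Scheme.homOfLE_ι,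
        Scheme.homOfLE_ι_assoc, morphismRestrict_ι]
  let φ' := (isPullback_pMap n k).lift (e ≫ φ) (f ∣_ U') (by rw [Category.assoc, hφ]; exact he'.w)
  have hφ'1 : φ' ≫ pMap n k = e ≫ φ := IsPullback.lift_fst _ _ _ _
  have hφ'2 : φ' ≫ CohB1.ProjSpaceOver.toBase n _ = f ∣_ U' := IsPullback.lift_snd _ _ _ _
  have hsq : IsPullback e φ' φ (pMap n k) :=
    IsPullback.of_bot (by rw [hφ'2, hφ]; exact he') hφ'1.symm (isPullback_pMap n k)
  haveI : IsOpenImmersion (pMap n k) :=
    MorphismProperty.of_isPullback (P := @IsOpenImmersion) (isPullback_pMap n k).flip inferInstance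
  let O' : (CohB1.ProjSpaceOver n U.toScheme).Opens := CohB1.ProjSpaceOver.toBase n U.toScheme ⁻¹ᵁ O
  have hrange : Set.range (pMap n k) ⊆ Set.range O'.ι := by
    rintro _ ⟨p, rfl⟩
    rw [Scheme.Opens.range_ι]
    change (pMap n k ≫ CohB1.ProjSpaceOver.toBase n U.toScheme) p ∈ O
    rw [(isPullback_pMap n k).w]
    obtain ⟨w, hw, hwp⟩ := hU'O (CohB1.ProjSpaceOver.toBase n U'.toScheme p).2
    have : (CohB1.ProjSpaceOver.toBase n U'.toScheme ≫ k) p = w := by
      refine U.ι.isOpenEmbedding.injective (Eq.trans ?_ hwp.symm)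
      rw [← Scheme.Hom.comp_apply, Category.assoc, Scheme.homOfLE_ι]
      rfl
    rw [this]; exact hw
  haveI : IsClosedImmersion φ' := by
    have h3 := hsq
    rw [← IsOpenImmersion.lift_fac O'.ι (pMap n k) hrange] at h3
    exact MorphismProperty.of_isPullback (P := @IsClosedImmersion)
      (IsPullback.of_right' h3 (isPullback_morphismRestrict φ O').flip) hO
  refine ⟨n, φ', inferInstance, hφ'2, ⟨?_⟩⟩
  exact (Scheme.Modules.restrictFunctorIsoPullback _).app L ≪≫
    ((ModDesc.trIso e j (X.homOfLE_ι (f.preimage_mono hle'))).app L).symm ≪≫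
    (Scheme.Modules.pullback e).mapIso θ ≪≫
    (ModDesc.trIso e φ rfl).app _ ≪≫ ((ModDesc.trIso φ' (pMap n k) hφ'1).app _).symm ≪≫
    (Scheme.Modules.pullback φ').mapIso ((ModDesc.trIso (pMap n k) (pz n U.toScheme) (pMap_pz n k)).app _)

end Groth.Agent.VAmpleNear
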