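import Groth.Agent.ProjMor.Segre
import Groth.Agent.W7Hull.InvNear
import Groth.Agent.GrassPlucker.Morphism

/-!
Morphisms to projective space described by coordinate sections.
-/

set_option autoImplicit false
set_option backward.isDefEq.respectTransparency false
set_option backward.isDefEq.respectTransparency.types false
set_option linter.style.haveILetI false

universe u

open CategoryTheory CategoryTheory.Limits AlgebraicGeometry TopologicalSpace Opposite
open Groth.Agent.QC (res resO res_res res_smul app_res res_self)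
open ProjMor
open TMul (IsGen val homOf val_homOf isGen_genLocus)

noncomputable section

namespace Groth.Agent.VAmpleNear

variable {X X' : Scheme.{u}} {n : ℕ}

/-- `σ` are the coordinate sections of `r`. -/
def Coord (r : X ⟶ CohB1.ProjSpace n (ULift.{u} ℤ)) (M : X.Modules) (σ : Fin (n + 1) → Γ(M, ⊤)) : Prop :=
  (∀ j, r ⁻¹ᵁ chart n j = CohB1.genLocus M (homOf (σ j))) ∧
  ∀ (j k : Fin (n + 1)) (V : X.Opens) (h : V ≤ r ⁻¹ᵁ chart n j),
    ev r (chart n j) V h (ratio n j k) • res M (le_top : V ≤ ⊤) (σ j) = res M (le_top : V ≤ ⊤) (σ k)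

variable {r r' : X ⟶ CohB1.ProjSpace n (ULift.{u} ℤ)} {M N : X.Modules} {σ : Fin (n + 1) → Γ(M, ⊤)}

theorem Coord.mk' (h1 : ∀ j, r ⁻¹ᵁ chart n j = CohB1.genLocus M (homOf (σ j)))
    (h2 : ∀ j k, ev r (chart n j) (r ⁻¹ᵁ chart n j) le_rfl (ratio n j k) • res M (le_top : r ⁻¹ᵁ chart n j ≤ ⊤) (σ j) =
      res M (le_top : r ⁻¹ᵁ chart n j ≤ ⊤) (σ k)) : Coord r M σ := by
  refine ⟨h1, fun j k V h => ?_⟩
  have := congrArg (res M h) (h2 j k)
  rwa [res_smul, res_res, res_res, ev_res] at this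

theorem Coord.congr (hr : r = r') (h : Coord r M σ) : Coord r' M σ := hr ▸ h

theorem Coord.map (φ : M ≅ N) (h : Coord r M σ) : Coord r N fun j => φ.hom.app ⊤ (σ j) := by
  refine ⟨fun j => ?_, fun j k V hV => ?_⟩
  · rw [homOf_app, TMul.genLocus_comp]; exact h.1 j
  · dsimp only
    rw [app_res φ.hom, app_res φ.hom, ← h.2 j k V hV, TMul.app_smul]

theorem genLocus_smul {c : Γ(X, ⊤)} (hc : IsUnit c) (t : Γ(M, ⊤)) :
    CohB1.genLocus M (homOf (c • t)) = CohB1.genLocus M (homOf t) := by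
  have key : ∀ (c : Γ(X, ⊤)), IsUnit c → ∀ t : Γ(M, ⊤),
      CohB1.genLocus M (homOf t) ≤ CohB1.genLocus M (homOf (c • t)) := fun c hc t => by
    refine TMul.le_genLocus (homOf (c • t)) ?_
    rw [val_homOf, res_smul]
    exact W7Hull.isGen_smul (isGen_homOf t) (hc.map _)
  refine le_antisymm ?_ (key c hc t)
  have := key ↑(hc.unit⁻¹) (Units.isUnit _) (c • t)
  rwa [smul_smul, IsUnit.val_inv_mul, one_smul] at this

theorem Coord.smul {c : Γ(X, ⊤)} (hc : IsUnit c) (h : Coord r M σ) : Coord r M fun j => c • σ j := by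
  refine ⟨fun j => (h.1 j).trans (genLocus_smul hc _).symm, fun j k V hV => ?_⟩
  rw [res_smul, res_smul, smul_comm, h.2 j k V hV]

theorem Coord.pullback (e : X' ⟶ X) (hM : PicF.IsInvertible M) (h : Coord r M σ) :
    Coord (e ≫ r) ((Scheme.Modules.pullback e).obj M) fun j => ProjUP.pullSec e M (σ j) := by
  refine ⟨fun j => ?_, fun j k V hV => ?_⟩
  · rw [genLocus_pullSec e hM, Scheme.Hom.comp_preimage, h.1 j]
  · rw [res_pullSec e M (σ j) (U := r ⁻¹ᵁ chart n j) hV, res_pullSec e M (σ k) (U := r ⁻¹ᵁ chart n j) hV,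
      ← h.2 j k (r ⁻¹ᵁ chart n j) le_rfl]
    refine Eq.trans ?_ (res_eta_smul e M (U := r ⁻¹ᵁ chart n j) hV _ _).symm
    refine congrArg (fun c : Γ(X', V) => c • res ((Scheme.Modules.pullback e).obj M) hV
      (eta e M (r ⁻¹ᵁ chart n j) (res M le_top (σ j)))) ?_
    change ((e ≫ r).appLE (chart n j) V hV).hom _ = _
    rw [Scheme.Hom.comp_appLE]
    simp [ev, Scheme.Hom.app_eq_appLE]

theorem exists_mem (r : X ⟶ CohB1.ProjSpace n (ULift.{u} ℤ)) (x : X) : ∃ j, x ∈ r ⁻¹ᵁ chart n j := by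
  have h : ⨆ j, chart.{u} n j = ⊤ := GrassPlucker.iSup_basicOpen_X
  have hx : r x ∈ ⨆ j, chart.{u} n j := h.ge (show r x ∈ (⊤ : (CohB1.ProjSpace n (ULift.{u} ℤ)).Opens) from trivial)
  obtain ⟨j, hj⟩ := Opens.mem_iSup.1 hx
  exact ⟨j, hj⟩

theorem Coord.ext (h : Coord r M σ) (h' : Coord r' M σ) : r = r' := by
  choose j hj using exists_mem r
  refine (X.openCoverOfIsOpenCover (fun x => r ⁻¹ᵁ chart n (j x))
    (top_le_iff.mp fun x _ => Opens.mem_iSup.mpr ⟨x, hj x⟩)).hom_ext _ _ fun x => ?_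
  have hV : r ⁻¹ᵁ chart n (j x) ≤ r' ⁻¹ᵁ chart n (j x) := (h.1 _).le.trans (h'.1 _).ge
  refine ι_comp_eq_of_ev_eq (isAffineOpen_chart n (j x)) r r' le_rfl hV (ringHom_ext_ratio _ _ _ fun k => ?_)
  have hg : IsGen (res M (le_top : r ⁻¹ᵁ chart n (j x) ≤ ⊤) (σ (j x))) := by
    have := (isGen_homOf (σ (j x))).res (h.1 (j x)).le
    rwa [res_res] at this
  refine (hg _ le_rfl).1 ?_
  change _ • res M le_rfl (res M _ _) = _ • res M le_rfl (res M _ _)
  rw [res_self, h.2 _ k _ le_rfl, h'.2 _ k _ hV]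

end Groth.Agent.VAmpleNear
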